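import Groth.Agent.DetNorm16.Pair
import Groth.Agent.ExtCoker.Basic

/-!
Frames near a prime of the base for projective modules over a finite algebra, and uniform charts.
-/

set_option autoImplicit false

universe u v

open TensorProduct

namespace Groth.Agent.DetNorm16

variable {A B : Type*} [CommRing A] [CommRing B] [Algebra A B]

/-- A chart with a uniform denominator. -/
theorem exists_chart_uniform {P : Type v} [AddCommGroup P] [Module A P] [Module.Finite A P] [Module.Projective A P]
    (n : ℕ) (q : PrimeSpectrum A) (hq : Module.rankAtStalk P q = n) :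
    ∃ (x : Fin n → P) (φ : Fin n → (P →ₗ[A] A)) (t : A), t ∉ q.asIdeal ∧
      Matrix.det (Matrix.of fun i j => φ i (x j)) ∉ q.asIdeal ∧
      ∀ y : P, t • y ∈ Submodule.span A (Set.range x) := by
  classical
  obtain ⟨x, φ, hdet, hsp⟩ := ExtCoker.exists_chart n q hq
  obtain ⟨G, hG⟩ : (⊤ : Submodule A P).FG := Module.Finite.fg_top
  choose s hs hsy using hsp
  refine ⟨x, φ, ∏ y ∈ G, s y, fun h => ?_, hdet, fun y => ?_⟩
  · obtain ⟨y, -, hy⟩ := Ideal.IsPrime.prod_mem_iff.1 h
    exact hs y hy
  · have hy : y ∈ Submodule.span A (G : Set P) := hG.symm ▸ Submodule.mem_top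
    induction hy using Submodule.span_induction with
    | mem w hw =>
      rw [← Finset.prod_erase_mul _ _ hw, mul_smul]
      exact Submodule.smul_mem _ _ (hsy w)
    | zero => rw [smul_zero]; exact zero_mem _
    | add u w _ _ hu hw => rw [smul_add]; exact add_mem hu hw
    | smul r u _ hu => rw [smul_comm]; exact Submodule.smul_mem _ r hu

variable [Module.Finite A B]

/-- Near a prime of the base, a projective module of constant rank is generated by a frame. -/
theorem exists_frame_near (q : Ideal A) [q.IsPrime] (M : Type v) [AddCommGroup M] [Module B M]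
    [Module.Finite B M] [Module.Projective B M] (k : ℕ)
    (h : ∀ P : PrimeSpectrum B, Module.rankAtStalk M P = k) :
    ∃ (e : Fin k → M) (a : A) (g : M →ₗ[B] (Fin k → B)), a ∉ q ∧
      ∀ z : M, Fintype.linearCombination B e (g z) = algebraMap A B a • z := by
  classical
  have hfin : (q.primesOver B).Finite := Algebra.QuasiFinite.finite_primesOver q
  let T := hfin.toFinset
  have hT : ∀ P ∈ T, P.IsPrime ∧ P.LiesOver q := fun P hP => hfin.mem_toFinset.1 hP
  have hgen : ∀ P ∈ T, ∃ m : Fin k → M, ∃ t : B, t ∉ P ∧ ∀ z : M, t • z ∈ Submodule.span B (Set.range m) := fun P hP => by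
    obtain ⟨x, φ, t, ht, -, hx⟩ := exists_chart_uniform k ⟨P, (hT P hP).1⟩ (h _)
    exact ⟨x, t, ht, hx⟩
  choose! m t ht hm using hgen
  have hsep : ∀ P ∈ T, ∃ c : B, c ∉ P ∧ ∀ P' ∈ T, P' ≠ P → c ∈ P' := by
    intro P hP
    haveI := (hT P hP).1
    have hinc : ∀ P' ∈ T, P' ≠ P → ¬ P' ≤ P := fun P' hP' hne hle => by
      haveI := (hT P' hP').1
      haveI := (hT P' hP').2
      haveI := (hT P hP).2
      exact (Ideal.comap_lt_comap_of_integral_mem_sdiff hle
        (Set.not_subset.1 (fun hsub => hne (le_antisymm hle hsub))).choose_spec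
        (Algebra.IsIntegral.isIntegral _)).ne
        ((Ideal.over_def P' q).symm.trans (Ideal.over_def P q))
    have : ∀ P' ∈ T.erase P, ∃ d ∈ P', d ∉ P := fun P' hP' =>
      Set.not_subset.1 (hinc P' (Finset.mem_of_mem_erase hP') (Finset.ne_of_mem_erase hP'))
    choose! d hd hd' using this
    refine ⟨∏ P' ∈ T.erase P, d P', fun hmem => ?_, fun P' hP' hne => ?_⟩
    · obtain ⟨P', hP', hmem'⟩ := Ideal.IsPrime.prod_mem_iff.1 hmem
      exact hd' P' hP' hmem'
    · exact Ideal.mem_of_dvd _ (Finset.dvd_prod_of_mem _ (Finset.mem_erase.2 ⟨hne, hP'⟩))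
        (hd P' (Finset.mem_erase.2 ⟨hne, hP'⟩))
  choose! c hc hc' using hsep
  let e : Fin k → M := fun l => ∑ P ∈ T, c P • m P l
  have he : ∀ P ∈ T, ∃ s ∉ P, ∀ z : M, s • z ∈ Submodule.span B (Set.range e) := by
    intro P hP
    haveI := (hT P hP).1
    choose y hy using fun z => Submodule.mem_span_range_iff_exists_fun B |>.1 (hm P hP z)
    let Y : Matrix (Fin k) (Fin k) B :=
      (c P * t P) • 1 + ∑ P' ∈ T.erase P, c P' • Matrix.of fun l r => y (m P' l) r
    have hσe : ∀ l, t P • e l = ∑ r, Y l r • m P r := fun l => by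
      simp only [e, Y, Finset.smul_sum, Matrix.add_apply, Matrix.smul_apply, Matrix.one_apply, Matrix.sum_apply,
        add_smul, Finset.sum_add_distrib, Finset.sum_smul, smul_eq_mul, Matrix.of_apply]
      rw [← Finset.add_sum_erase _ _ hP, Finset.sum_comm]
      refine congrArg₂ (· + ·) ?_ (Finset.sum_congr rfl fun P' _ => ?_)
      · rw [smul_smul, mul_comm]
        simp
      · rw [smul_comm, ← hy (m P' l), Finset.smul_sum]
        simp only [smul_smul]
    have hY : Y.det ∉ P := fun hmem => by
      have h0 : Ideal.Quotient.mk P Y.det = 0 := Ideal.Quotient.eq_zero_iff_mem.2 hmem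
      have hYm : (Ideal.Quotient.mk P).mapMatrix Y = Ideal.Quotient.mk P (c P * t P) • 1 := by
        ext l r
        simp only [Y, RingHom.mapMatrix_apply, Matrix.map_apply, Matrix.add_apply, Matrix.sum_apply, Matrix.smul_apply,
          map_add, map_sum, smul_eq_mul, map_mul, Matrix.of_apply]
        rw [Finset.sum_eq_zero fun P' hP' => ?_, add_zero]
        · rw [Matrix.one_apply, Matrix.one_apply]; split_ifs <;> simp
        · rw [Ideal.Quotient.eq_zero_iff_mem.2 (hc' P' (Finset.mem_of_mem_erase hP') P hP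
            (Finset.ne_of_mem_erase hP').symm), zero_mul]
      rw [RingHom.map_det, hYm, Matrix.det_smul, Matrix.det_one, mul_one, ← map_pow,
        Ideal.Quotient.eq_zero_iff_mem] at h0
      exact Ideal.IsPrime.mul_notMem ‹P.IsPrime› (hc P hP) (ht P hP) ((‹P.IsPrime›).mem_of_pow_mem _ h0)
    refine ⟨Y.det * t P, Ideal.IsPrime.mul_notMem ‹_› hY (ht P hP), fun z => ?_⟩
    have hmr : ∀ r, Y.det • m P r ∈ Submodule.span B (Set.range e) := fun r => by
      have : Y.det • m P r = ∑ l, (Y.adjugate r l * t P) • e l := by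
        have hentry : ∀ r', ∑ l, Y.adjugate r l * Y l r' = if r = r' then Y.det else 0 := fun r' => by
          rw [← Matrix.mul_apply, Matrix.adjugate_mul, Matrix.smul_apply, Matrix.one_apply, smul_eq_mul, mul_ite, mul_one, mul_zero]
        calc Y.det • m P r = ∑ r', (if r = r' then Y.det else 0) • m P r' := by simp [ite_smul]
          _ = ∑ r', ∑ l, (Y.adjugate r l * Y l r') • m P r' := by simp only [← hentry, Finset.sum_smul]
          _ = ∑ l, ∑ r', (Y.adjugate r l * Y l r') • m P r' := Finset.sum_comm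
          _ = ∑ l, (Y.adjugate r l * t P) • e l := Finset.sum_congr rfl fun l _ => by
            rw [mul_smul, hσe, Finset.smul_sum]
            simp only [mul_smul]
      rw [this]
      exact Submodule.sum_mem _ fun l _ => Submodule.smul_mem _ _ (Submodule.subset_span ⟨l, rfl⟩)
    rw [mul_smul, ← hy z, Finset.smul_sum]
    refine Submodule.sum_mem _ fun r _ => ?_
    rw [smul_comm]
    exact Submodule.smul_mem _ _ (hmr r)
  let J : Ideal B :=
    { carrier := {s | ∀ z : M, s • z ∈ Submodule.span B (Set.range e)}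
      zero_mem' := fun z => by rw [zero_smul]; exact zero_mem _
      add_mem' := fun {a b} ha hb z => by rw [add_smul]; exact add_mem (ha z) (hb z)
      smul_mem' := fun r a ha z => by rw [smul_eq_mul, mul_smul]; exact Submodule.smul_mem _ r (ha z) }
  have hJq : ¬ J.comap (algebraMap A B) ≤ q := fun hle => by
    obtain ⟨P, hJP, hP, hPq⟩ := Ideal.exists_ideal_over_prime_of_isIntegral q J hle
    obtain ⟨s, hs, hsz⟩ := he P (hfin.mem_toFinset.2 ⟨hP, ⟨hPq.symm⟩⟩)
    exact hs (hJP hsz)
  obtain ⟨a, haJ, haq⟩ := Set.not_subset.1 hJq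
  have hall : ∀ z : M, algebraMap A B a • z ∈ LinearMap.range (Fintype.linearCombination B e) := by
    intro z
    rw [Fintype.range_linearCombination]
    exact haJ z
  obtain ⟨g, hg⟩ := Module.projective_lifting_property (Fintype.linearCombination B e).rangeRestrict
    ((algebraMap A B a • (LinearMap.id : M →ₗ[B] M)).codRestrict _ hall)
    (LinearMap.surjective_rangeRestrict _)
  exact ⟨e, a, g, haq, fun z => congrArg Subtype.val (LinearMap.congr_fun hg z)⟩

end Groth.Agent.DetNorm16
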