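import Mathlib.RingTheory.LocalRing.Module
import Mathlib.RingTheory.QuasiFinite.Basic
import Mathlib.RingTheory.Ideal.GoingUp
import Mathlib.RingTheory.Spectrum.Prime.FreeLocus
import Mathlib.Algebra.Module.LocalizedModule.AtPrime

/-!
Rank one projective modules over a finite algebra are generated by one element near each prime of
the base.
-/

set_option autoImplicit false

universe u v

namespace Groth.Agent.DetNorm16

variable {A B : Type*} [CommRing A] [CommRing B] [Algebra A B]

theorem exists_local_generator (P : Ideal B) [P.IsPrime] (M : Type v) [AddCommGroup M] [Module B M]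
    [Module.Finite B M] [Module.Projective B M]
    (h : Module.finrank (Localization.AtPrime P) (LocalizedModule P.primeCompl M) = 1) :
    ∃ m : M, ∀ z : M, ∃ s ∉ P, ∃ c : B, s • z = c • m := by
  haveI : Module.Flat (Localization.AtPrime P) (LocalizedModule P.primeCompl M) := inferInstance
  haveI : Module.Free (Localization.AtPrime P) (LocalizedModule P.primeCompl M) :=
    Module.free_of_flat_of_isLocalRing
  obtain ⟨v, -, hv⟩ := (finrank_eq_one_iff' (K := Localization.AtPrime P)).1 h
  obtain ⟨⟨m, s⟩, hms⟩ := IsLocalizedModule.surj P.primeCompl (LocalizedModule.mkLinearMap P.primeCompl M) v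
  refine ⟨m, fun z => ?_⟩
  obtain ⟨c, hc⟩ := hv (LocalizedModule.mkLinearMap P.primeCompl M z)
  obtain ⟨⟨b, t⟩, hbt⟩ := IsLocalization.surj P.primeCompl c
  have hms' : algebraMap B (Localization.AtPrime P) (s : B) • v = LocalizedModule.mkLinearMap P.primeCompl M m := by
    rw [algebraMap_smul]; exact hms
  have hh : LocalizedModule.mkLinearMap P.primeCompl M (((t : B) * s) • z) =
      LocalizedModule.mkLinearMap P.primeCompl M (b • m) := by
    rw [map_smul, map_smul, ← hms', ← hc, ← algebraMap_smul (Localization.AtPrime P) ((t : B) * s),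
      ← algebraMap_smul (Localization.AtPrime P) b, smul_smul, smul_smul, ← hbt, map_mul]
    congr 1; ring
  obtain ⟨r, hr⟩ := (IsLocalizedModule.eq_iff_exists P.primeCompl (LocalizedModule.mkLinearMap P.primeCompl M)).1 hh
  refine ⟨r * ((t : B) * s), fun hmem => ?_, r * b, (mul_smul _ _ _).trans (hr.trans (mul_smul _ _ _).symm)⟩
  exact (r * (t * s)).2 hmem

variable [Module.Finite A B]

/-- Near a prime of the base, a rank one projective module is cyclic. -/
theorem exists_cyclic_near (q : Ideal A) [q.IsPrime] (M : Type v) [AddCommGroup M] [Module B M]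
    [Module.Finite B M] [Module.Projective B M]
    (h : ∀ P : PrimeSpectrum B, Module.finrank (Localization.AtPrime P.asIdeal) (LocalizedModule P.asIdeal.primeCompl M) = 1) :
    ∃ (e : M) (a : A) (g : M →ₗ[B] B), a ∉ q ∧ ∀ z : M, g z • e = algebraMap A B a • z := by
  classical
  have hfin : (q.primesOver B).Finite := Algebra.QuasiFinite.finite_primesOver q
  let T := hfin.toFinset
  have hT : ∀ P ∈ T, P.IsPrime ∧ P.LiesOver q := fun P hP => hfin.mem_toFinset.1 hP
  have hgen : ∀ P ∈ T, ∃ m : M, ∀ z : M, ∃ s ∉ P, ∃ c : B, s • z = c • m := fun P hP =>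
    haveI := (hT P hP).1
    exists_local_generator P M (h ⟨P, (hT P hP).1⟩)
  choose! m hm using hgen
  have hsep : ∀ P ∈ T, ∃ c : B, c ∉ P ∧ ∀ P' ∈ T, P' ≠ P → c ∈ P' := by
    intro P hP
    haveI := (hT P hP).1
    have hinc : ∀ P' ∈ T, P' ≠ P → ¬ P' ≤ P := fun P' hP' hne hle => by
      haveI := (hT P' hP').1
      haveI := (hT P' hP').2
      haveI := (hT P hP).2
      exact (Ideal.comap_lt_comap_of_integral_mem_sdiff hle
        (Set.not_subset.1 (fun hsub => hne (le_antisymm hle hsub))).choose_spec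
        (Algebra.IsIntegral.isIntegral _)).ne
        ((Ideal.over_def P' q).symm.trans (Ideal.over_def P q))
    have : ∀ P' ∈ T.erase P, ∃ d ∈ P', d ∉ P := fun P' hP' =>
      Set.not_subset.1 (hinc P' (Finset.mem_of_mem_erase hP') (Finset.ne_of_mem_erase hP'))
    choose! d hd hd' using this
    refine ⟨∏ P' ∈ T.erase P, d P', fun hmem => ?_, fun P' hP' hne => ?_⟩
    · obtain ⟨P', hP', hmem'⟩ := Ideal.IsPrime.prod_mem_iff.1 hmem
      exact hd' P' hP' hmem'
    · exact Ideal.mem_of_dvd _ (Finset.dvd_prod_of_mem _ (Finset.mem_erase.2 ⟨hne, hP'⟩))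
        (hd P' (Finset.mem_erase.2 ⟨hne, hP'⟩))
  choose! c hc hc' using hsep
  let e : M := ∑ P ∈ T, c P • m P
  have he : ∀ P ∈ T, ∀ z : M, ∃ s ∉ P, s • z ∈ Submodule.span B {e} := by
    intro P hP z
    haveI := (hT P hP).1
    choose s hs y hy using fun z => hm P hP z
    let σ := ∏ P' ∈ T.erase P, s (m P')
    let w : Ideal B → B := fun P' => (∏ P'' ∈ (T.erase P).erase P', s (m P'')) * y (m P')
    let x := c P * σ + ∑ P' ∈ T.erase P, c P' * w P'
    have hσe : σ • e = x • m P := by
      simp only [e, Finset.smul_sum, x, add_smul, Finset.sum_smul]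
      rw [← Finset.add_sum_erase _ _ hP]
      refine congrArg₂ (· + ·) (by rw [smul_smul, mul_comm]) (Finset.sum_congr rfl fun P' hP' => ?_)
      have h1 : σ = (∏ P'' ∈ (T.erase P).erase P', s (m P'')) * s (m P') := (Finset.prod_erase_mul _ _ hP').symm
      rw [smul_comm σ (c P'), mul_smul, h1, mul_smul]
      show c P' • _ = c P' • (_ * _) • m P
      rw [mul_smul, hy]
    have hx : x ∉ P := fun hxm => by
      refine (Ideal.IsPrime.mul_notMem ‹P.IsPrime› (hc P hP) (?_ : σ ∉ P))
        ((Ideal.add_mem_iff_left _ (Ideal.sum_mem _ fun P' hP' => Ideal.mul_mem_right _ _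
          (hc' P' (Finset.mem_of_mem_erase hP') P hP (Finset.ne_of_mem_erase hP').symm))).1 hxm)
      intro hmem
      obtain ⟨P', -, hmem'⟩ := Ideal.IsPrime.prod_mem_iff.1 hmem
      exact hs _ hmem'
    refine ⟨x * s z, Ideal.IsPrime.mul_notMem ‹_› hx (hs z), Submodule.mem_span_singleton.2 ⟨y z * σ, ?_⟩⟩
    rw [mul_smul, mul_smul, hy, hσe, smul_comm]
  obtain ⟨G, hG⟩ : (⊤ : Submodule B M).FG := Module.Finite.fg_top
  let J : Ideal B := G.inf fun z => (Submodule.span B {e}).colon {z}
  have hJ : ∀ P ∈ T, ¬ J ≤ P := fun P hP hle => by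
    haveI := (hT P hP).1
    obtain ⟨z, hz, hzle⟩ := (Ideal.IsPrime.inf_le' ‹P.IsPrime›).1 hle
    obtain ⟨s, hs, hsz⟩ := he P hP z
    exact hs (hzle (Submodule.mem_colon_singleton.2 hsz))
  have hJq : ¬ J.comap (algebraMap A B) ≤ q := fun hle => by
    obtain ⟨P, hJP, hP, hPq⟩ := Ideal.exists_ideal_over_prime_of_isIntegral q J hle
    exact hJ P (hfin.mem_toFinset.2 ⟨hP, ⟨hPq.symm⟩⟩) hJP
  obtain ⟨a, haJ, haq⟩ := Set.not_subset.1 hJq
  have hall : ∀ z : M, algebraMap A B a • z ∈ LinearMap.range (LinearMap.toSpanSingleton B M e) := by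
    intro z
    rw [LinearMap.range_toSpanSingleton]
    have hz : z ∈ Submodule.span B (G : Set M) := hG.symm ▸ Submodule.mem_top
    induction hz using Submodule.span_induction with
    | mem w hw =>
      exact Submodule.mem_colon_singleton.1 ((Finset.inf_le hw : J ≤ _) haJ)
    | zero => rw [smul_zero]; exact zero_mem _
    | add u v _ _ hu hv => rw [smul_add]; exact add_mem hu hv
    | smul r u _ hu => rw [smul_comm]; exact Submodule.smul_mem _ r hu
  obtain ⟨g, hg⟩ := Module.projective_lifting_property (LinearMap.toSpanSingleton B M e).rangeRestrict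
    ((algebraMap A B a • (LinearMap.id : M →ₗ[B] M)).codRestrict (LinearMap.range (LinearMap.toSpanSingleton B M e)) hall)
    (LinearMap.surjective_rangeRestrict _)
  exact ⟨e, a, g, haq, fun z => congrArg Subtype.val (LinearMap.congr_fun hg z)⟩

end Groth.Agent.DetNorm16
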