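import Groth.Agent.DetNorm16.Local
import Mathlib.LinearAlgebra.ExteriorPower.Basic
import Mathlib.LinearAlgebra.Alternating.Basic
import Mathlib.LinearAlgebra.Determinant
import Mathlib.LinearAlgebra.TensorProduct.Tower

/-!
Determinants of the restriction of scalars of tensor products of rank one modules.
-/

set_option autoImplicit false
set_option backward.isDefEq.respectTransparency false
set_option backward.isDefEq.respectTransparency.types false

universe u

open TensorProduct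

noncomputable section

namespace Groth.Agent.DetNorm16

variable {A : Type*} [CommRing A] {P Q R : Type*} [AddCommGroup P] [Module A P] [AddCommGroup Q] [Module A Q]

theorem map_smul_id (n : ℕ) (a : A) :
    exteriorPower.map n (a • (LinearMap.id : P →ₗ[A] P)) = a ^ n • LinearMap.id := by
  refine Submodule.linearMap_eq_iff_of_span_eq_top _ _ (exteriorPower.ιMulti_span A n P) |>.2 ?_
  rintro ⟨_, v, rfl⟩
  rw [exteriorPower.map_apply_ιMulti]
  exact ((exteriorPower.ιMulti A n).map_smul_univ (fun _ => a) v).trans (by simp)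

/-- Elements are determined near each prime. -/
theorem eq_of_local {x y : P} (h : ∀ q : PrimeSpectrum A, ∃ t ∉ q.asIdeal, t • x = t • y) : x = y := by
  let J : Ideal A := (Submodule.span A {x - y}).annihilator
  have hJ : J = ⊤ := by
    by_contra hne
    obtain ⟨q, hq, hle⟩ := Ideal.exists_le_maximal J hne
    obtain ⟨t, ht, he⟩ := h ⟨q, hq.isPrime⟩
    exact ht (hle ((Submodule.mem_annihilator_span_singleton _ _).2 (by rw [smul_sub, he, sub_self])))
  have h1 : (1 : A) ∈ J := hJ ▸ Submodule.mem_top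
  simpa [J, Submodule.mem_annihilator_span_singleton, sub_eq_zero] using h1

/-- A map with locally trivial kernel and cokernel is bijective. -/
theorem bijective_of_local (f : P →ₗ[A] Q)
    (hi : ∀ x, f x = 0 → ∀ q : PrimeSpectrum A, ∃ t ∉ q.asIdeal, t • x = 0)
    (hs : ∀ y, ∀ q : PrimeSpectrum A, ∃ t ∉ q.asIdeal, t • y ∈ LinearMap.range f) : Function.Bijective f := by
  refine ⟨(injective_iff_map_eq_zero f).2 fun x hx => eq_of_local (A := A) fun q => ?_, fun y => ?_⟩
  · obtain ⟨t, ht, h⟩ := hi x hx q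
    exact ⟨t, ht, h.trans (smul_zero t).symm⟩
  · refine LinearMap.mem_range.1 ((Submodule.Quotient.mk_eq_zero _).1 (eq_of_local (A := A) fun q => ?_))
    obtain ⟨t, ht, h⟩ := hs y q
    exact ⟨t, ht, by rw [smul_zero, ← Submodule.Quotient.mk_smul]; exact (Submodule.Quotient.mk_eq_zero _).2 h⟩

/-- Top exterior powers of projective modules are cyclic near each prime. -/
theorem exists_wedge_generator (n : ℕ) (q : Ideal A) [q.IsPrime]
    (hloc : ∃ x : Fin n → P, ∀ y : P, ∃ t ∉ q, t • y ∈ Submodule.span A (Set.range x)) :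
    ∃ ω : ⋀[A]^n P, ∀ γ : ⋀[A]^n P, ∃ t ∉ q, t • γ ∈ Submodule.span A {ω} := by
  obtain ⟨x, hx⟩ := hloc
  refine ⟨exteriorPower.ιMulti A n x, fun γ => ?_⟩
  have hγ : γ ∈ Submodule.span A (Set.range (exteriorPower.ιMulti A n (M := P))) := by
    rw [exteriorPower.ιMulti_span]; trivial
  induction hγ using Submodule.span_induction with
  | mem γ hγ =>
    obtain ⟨v, rfl⟩ := hγ
    choose t ht c hc using fun i => (hx (v i)).imp fun t h => And.intro h.1 (Submodule.mem_span_range_iff_exists_fun A |>.1 h.2)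
    refine ⟨∏ i, t i, fun hmem => ?_, Submodule.mem_span_singleton.2 ?_⟩
    · obtain ⟨i, -, hi⟩ := Ideal.IsPrime.prod_mem_iff.1 hmem
      exact ht i hi
    · let L := Fintype.linearCombination A x
      let f := (exteriorPower.ιMulti A n).compLinearMap L
      refine ⟨(Pi.basisFun A (Fin n)).det c, ?_⟩
      have h1 : f c = (Pi.basisFun A (Fin n)).det c • f (Pi.basisFun A (Fin n)) := by
        let b := Pi.basisFun A (Fin n)
        suffices hh : f = (LinearMap.toSpanSingleton A _ (f b)).compAlternatingMap b.det from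
          (DFunLike.congr_fun hh c).trans (LinearMap.toSpanSingleton_apply A _ _ _)
        refine b.ext_alternating fun v hv => ?_
        obtain ⟨σ, rfl⟩ : ∃ σ : Equiv.Perm (Fin n), v = σ :=
          ⟨Equiv.ofBijective v (Finite.injective_iff_bijective.1 hv), rfl⟩
        show f (⇑b ∘ ⇑σ) = b.det (⇑b ∘ ⇑σ) • f ⇑b
        rw [AlternatingMap.map_perm, AlternatingMap.map_perm, Module.Basis.det_self, Units.smul_def,
          Units.smul_def, smul_assoc, one_smul]
      have h2 : f c = exteriorPower.ιMulti A n (fun i => t i • v i) :=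
        congrArg (exteriorPower.ιMulti A n) (funext fun i => (Fintype.linearCombination_apply A x (c i)).trans (hc i))
      have h3 : f (Pi.basisFun A (Fin n)) = exteriorPower.ιMulti A n x :=
        congrArg (exteriorPower.ιMulti A n) (funext fun i => by simp [L])
      rw [← h3, ← h1, h2, AlternatingMap.map_smul_univ]
  | zero => exact ⟨1, fun h => Ideal.IsPrime.ne_top ‹_› ((Ideal.eq_top_iff_one q).2 h), by simp⟩
  | add γ δ _ _ hγ hδ =>
    obtain ⟨t, ht, hγ⟩ := hγ
    obtain ⟨s, hs, hδ⟩ := hδ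
    refine ⟨t * s, Ideal.IsPrime.mul_notMem ‹_› ht hs, ?_⟩
    rw [smul_add]
    refine add_mem ?_ ?_
    · rw [mul_comm, mul_smul]; exact Submodule.smul_mem _ s hγ
    · rw [mul_smul]; exact Submodule.smul_mem _ t hδ
  | smul r γ _ hγ =>
    obtain ⟨t, ht, hγ⟩ := hγ
    exact ⟨t, ht, by rw [smul_comm]; exact Submodule.smul_mem _ r hγ⟩

/-- Endomorphisms of a locally cyclic module move across tensor products. -/
theorem map_tmul_comm (hP : ∀ q : PrimeSpectrum A, ∃ ω : P, ∀ γ : P, ∃ t ∉ q.asIdeal, t • γ ∈ Submodule.span A {ω})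
    (φ : P →ₗ[A] P) (β γ : P) : φ β ⊗ₜ[A] γ = β ⊗ₜ[A] φ γ := by
  refine eq_of_local (A := A) fun q => ?_
  obtain ⟨ω, hω⟩ := hP q
  obtain ⟨t, ht, hβ⟩ := hω β
  obtain ⟨s, hs, hγ⟩ := hω γ
  obtain ⟨r, hr, hφ⟩ := hω (φ ω)
  obtain ⟨b, hb⟩ := Submodule.mem_span_singleton.1 hβ
  obtain ⟨c, hc⟩ := Submodule.mem_span_singleton.1 hγ
  obtain ⟨d, hd⟩ := Submodule.mem_span_singleton.1 hφ
  refine ⟨r * (t * s), Ideal.IsPrime.mul_notMem q.isPrime hr (Ideal.IsPrime.mul_notMem q.isPrime ht hs), ?_⟩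
  calc (r * (t * s)) • (φ β ⊗ₜ[A] γ) = r • ((t • φ β) ⊗ₜ[A] (s • γ)) := by
        rw [smul_tmul_smul, smul_smul]
    _ = r • ((b • φ ω) ⊗ₜ[A] (c • ω)) := by rw [← map_smul, ← hb, map_smul, hc]
    _ = (b * c) • ((d • ω) ⊗ₜ[A] ω) := by rw [smul_tmul_smul, smul_comm, hd, smul_tmul']
    _ = (b * c) • (ω ⊗ₜ[A] (d • ω)) := by rw [smul_tmul, tmul_smul]
    _ = r • ((b • ω) ⊗ₜ[A] (c • φ ω)) := by rw [hd, smul_tmul_smul, tmul_smul, smul_comm]
    _ = r • ((t • β) ⊗ₜ[A] (s • φ γ)) := by rw [← map_smul φ s, ← hc, map_smul, hb]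
    _ = (r * (t * s)) • (β ⊗ₜ[A] φ γ) := by rw [smul_tmul_smul, smul_smul]

section Algebra

variable {B : Type*} [CommRing B] [Algebra A B] {M₁ M₂ : Type*} [AddCommGroup M₁] [Module B M₁] [Module A M₁]
  [IsScalarTower A B M₁] [AddCommGroup M₂] [Module B M₂] [Module A M₂] [IsScalarTower A B M₂]

variable (A) in
/-- The orbit map of an element. -/
abbrev orb {M : Type*} [AddCommGroup M] [Module B M] [Module A M] [IsScalarTower A B M] (m : M) : B →ₗ[A] M :=
  (LinearMap.toSpanSingleton B M m).restrictScalars A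

theorem exists_det_iso [Module.Finite A B] [Module.Projective A B] (n : ℕ)
    (hn : ∀ q : PrimeSpectrum A, Module.rankAtStalk B q = n)
    (hxB : ∀ q : PrimeSpectrum A, ∃ x : Fin n → B, ∀ y : B, ∃ t ∉ q.asIdeal, t • y ∈ Submodule.span A (Set.range x))
    (h₁ : ∀ q : PrimeSpectrum A, ∃ (e : M₁) (a : A) (g : M₁ →ₗ[B] B), a ∉ q.asIdeal ∧ ∀ z, g z • e = algebraMap A B a • z)
    (h₂ : ∀ q : PrimeSpectrum A, ∃ (e : M₂) (a : A) (g : M₂ →ₗ[B] B), a ∉ q.asIdeal ∧ ∀ z, g z • e = algebraMap A B a • z) :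
    Nonempty ((⋀[A]^n B) ⊗[A] (⋀[A]^n (M₁ ⊗[B] M₂)) ≃ₗ[A] (⋀[A]^n M₁) ⊗[A] (⋀[A]^n M₂)) := by
  have hLC : ∀ q : PrimeSpectrum A, ∃ ω : ⋀[A]^n B, ∀ γ, ∃ t ∉ q.asIdeal, t • γ ∈ Submodule.span A {ω} :=
    fun q => exists_wedge_generator n q.asIdeal (hxB q)
  let S : Ideal A :=
    { carrier := {a | ∃ f : (⋀[A]^n M₁) ⊗[A] (⋀[A]^n M₂) →ₗ[A] (⋀[A]^n B) ⊗[A] (⋀[A]^n (M₁ ⊗[B] M₂)),
        ∀ (m : M₁) (m' : M₂) (β β' : ⋀[A]^n B),
          f (exteriorPower.map n (orb A (B := B) m) β ⊗ₜ exteriorPower.map n (orb A (B := B) m') β') =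
            a • (β ⊗ₜ exteriorPower.map n (orb A (B := B) (m ⊗ₜ[B] m')) β')}
      zero_mem' := ⟨0, fun m m' β β' => by rw [zero_smul, LinearMap.zero_apply]⟩
      add_mem' := fun {a b} ⟨f, hf⟩ ⟨g, hg⟩ => ⟨f + g, fun m m' β β' => by
        rw [LinearMap.add_apply, hf, hg, add_smul]⟩
      smul_mem' := fun c a ⟨f, hf⟩ => ⟨c • f, fun m m' β β' => by
        rw [LinearMap.smul_apply, hf, smul_eq_mul, mul_smul]⟩ }
  have hS : S = ⊤ := by
    by_contra hne
    obtain ⟨q, hq, hle⟩ := Ideal.exists_le_maximal S hne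
    obtain ⟨e, a, g, ha, hg⟩ := h₁ ⟨q, hq.isPrime⟩
    obtain ⟨e', a', g', ha', hg'⟩ := h₂ ⟨q, hq.isPrime⟩
    refine Ideal.IsPrime.mul_notMem hq.isPrime (fun h => ha (hq.isPrime.mem_of_pow_mem n h))
      (fun h => ha' (hq.isPrime.mem_of_pow_mem n h)) (hle ?_)
    refine ⟨(exteriorPower.map n (orb A (B := B) (e ⊗ₜ[B] e'))).lTensor _ ∘ₗ
      TensorProduct.map (exteriorPower.map n (g.restrictScalars A)) (exteriorPower.map n (g'.restrictScalars A)),
      fun m m' β β' => ?_⟩
    rw [LinearMap.comp_apply, TensorProduct.map_tmul, ← LinearMap.comp_apply (exteriorPower.map n (g.restrictScalars A)),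
      ← exteriorPower.map_comp, map_tmul_comm hLC, LinearMap.lTensor_tmul, ← mul_pow, ← tmul_smul]
    congr 1
    rw [← LinearMap.comp_apply (exteriorPower.map n (g'.restrictScalars A)), ← exteriorPower.map_comp,
      ← LinearMap.comp_apply, ← exteriorPower.map_comp, ← LinearMap.comp_apply, ← exteriorPower.map_comp]
    have hcomp : (orb A (B := B) (e ⊗ₜ[B] e') ∘ₗ g.restrictScalars A ∘ₗ orb A (B := B) m) ∘ₗ g'.restrictScalars A ∘ₗ orb A (B := B) m' =
        ((a * a') • (LinearMap.id : M₁ ⊗[B] M₂ →ₗ[A] M₁ ⊗[B] M₂)) ∘ₗ orb A (B := B) (m ⊗ₜ[B] m') := by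
      refine LinearMap.ext fun b => ?_
      show g (g' (b • m') • m) • (e ⊗ₜ[B] e') = (a * a') • (b • (m ⊗ₜ[B] m'))
      rw [map_smul g, smul_eq_mul, mul_comm, map_smul g', smul_eq_mul]
      rw [show g m * (b * g' m') = b * (g m * g' m') by ring, mul_smul, ← TensorProduct.smul_tmul_smul, hg, hg',
        TensorProduct.smul_tmul_smul, ← map_mul, algebraMap_smul, smul_comm]
    rw [hcomp, exteriorPower.map_comp, LinearMap.comp_apply, map_smul_id, LinearMap.smul_apply, LinearMap.id_apply]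
  obtain ⟨f, hf⟩ : (1 : A) ∈ S := hS ▸ Submodule.mem_top
  simp only [one_smul] at hf
  refine ⟨(LinearEquiv.ofBijective f (bijective_of_local (P := (⋀[A]^n M₁) ⊗[A] (⋀[A]^n M₂))
    (Q := (⋀[A]^n B) ⊗[A] (⋀[A]^n (M₁ ⊗[B] M₂))) f ?_ ?_)).symm⟩
  · intro x hx q
    obtain ⟨e, a, g, ha, hg⟩ := h₁ q
    obtain ⟨e', a', g', ha', hg'⟩ := h₂ q
    let G : M₁ ⊗[B] M₂ →ₗ[A] B :=
      ((TensorProduct.lid B B).toLinearMap ∘ₗ TensorProduct.map g g').restrictScalars A
    let E := TensorProduct.map (exteriorPower.map n (orb A (B := B) e)) (exteriorPower.map n (orb A (B := B) e'))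
    let D := TensorProduct.map (exteriorPower.map n (g.restrictScalars A)) (exteriorPower.map n (g'.restrictScalars A))
    have hed : E ∘ₗ D = (a ^ n * a' ^ n) • LinearMap.id := by
      refine TensorProduct.ext' fun y y' => ?_
      simp only [E, D, LinearMap.comp_apply, TensorProduct.map_tmul, LinearMap.smul_apply, LinearMap.id_apply]
      rw [← LinearMap.comp_apply, ← exteriorPower.map_comp, ← LinearMap.comp_apply, ← exteriorPower.map_comp,
        show orb A (B := B) e ∘ₗ g.restrictScalars A = a • LinearMap.id from LinearMap.ext fun z => (hg z).trans (algebraMap_smul B a z),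
        show orb A (B := B) e' ∘ₗ g'.restrictScalars A = a' • LinearMap.id from LinearMap.ext fun z => (hg' z).trans (algebraMap_smul B a' z),
        map_smul_id, map_smul_id, LinearMap.smul_apply, LinearMap.smul_apply, smul_tmul_smul]
      rfl
    have hfe : f ∘ₗ E = (exteriorPower.map n (orb A (B := B) (e ⊗ₜ[B] e'))).lTensor _ :=
      TensorProduct.ext' fun β β' => hf e e' β β'
    have hde : (exteriorPower.map n G).lTensor _ ∘ₗ f ∘ₗ E = D ∘ₗ E := by
      refine TensorProduct.ext' fun β β' => ?_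
      rw [hfe]
      simp only [D, E, LinearMap.comp_apply, TensorProduct.map_tmul, LinearMap.lTensor_tmul]
      rw [← LinearMap.comp_apply (exteriorPower.map n (g.restrictScalars A)), ← exteriorPower.map_comp, map_tmul_comm hLC]
      congr 1
      rw [← LinearMap.comp_apply, ← exteriorPower.map_comp, ← LinearMap.comp_apply, ← exteriorPower.map_comp,
        ← LinearMap.comp_apply, ← exteriorPower.map_comp]
      congr 2
      refine LinearMap.ext fun b => ?_
      show g (b • e) • g' e' = g (g' (b • e') • e)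
      rw [map_smul, map_smul, map_smul g', smul_eq_mul, smul_eq_mul, smul_eq_mul]
      ring
    refine ⟨(a ^ n * a' ^ n) * (a ^ n * a' ^ n), Ideal.IsPrime.mul_notMem q.isPrime ?_ ?_, ?_⟩
    · exact Ideal.IsPrime.mul_notMem q.isPrime (fun h => ha (q.isPrime.mem_of_pow_mem n h))
        (fun h => ha' (q.isPrime.mem_of_pow_mem n h))
    · exact Ideal.IsPrime.mul_notMem q.isPrime (fun h => ha (q.isPrime.mem_of_pow_mem n h))
        (fun h => ha' (q.isPrime.mem_of_pow_mem n h))
    · have h1 : E (D x) = (a ^ n * a' ^ n) • x := LinearMap.congr_fun hed x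
      have h2 : D (E (D x)) = 0 := by
        rw [← LinearMap.comp_apply D E, ← hde, LinearMap.comp_apply, LinearMap.comp_apply, h1, map_smul f, hx,
          smul_zero, map_zero]
      rw [mul_smul, ← h1, ← map_smul E, ← map_smul D, ← h1, h2, map_zero]
  · intro w q
    induction w with
    | zero => exact ⟨1, fun h => q.isPrime.ne_top ((Ideal.eq_top_iff_one _).2 h), by rw [smul_zero]; exact zero_mem _⟩
    | add w w' hw hw' =>
      obtain ⟨t, ht, hw⟩ := hw
      obtain ⟨s, hs, hw'⟩ := hw'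
      refine ⟨t * s, Ideal.IsPrime.mul_notMem q.isPrime ht hs, ?_⟩
      rw [smul_add]
      refine add_mem ?_ ?_
      · rw [mul_comm, mul_smul]; exact Submodule.smul_mem _ s hw
      · rw [mul_smul]; exact Submodule.smul_mem _ t hw'
    | tmul β γ =>
      obtain ⟨e, a, g, ha, hg⟩ := h₁ q
      obtain ⟨e', a', g', ha', hg'⟩ := h₂ q
      let G : M₁ ⊗[B] M₂ →ₗ[A] B :=
        ((TensorProduct.lid B B).toLinearMap ∘ₗ TensorProduct.map g g').restrictScalars A
      refine ⟨(a * a') ^ n, fun h => Ideal.IsPrime.mul_notMem q.isPrime ha ha' (q.isPrime.mem_of_pow_mem n h), ?_⟩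
      refine ⟨exteriorPower.map n (orb A (B := B) e) β ⊗ₜ exteriorPower.map n (orb A (B := B) e') (exteriorPower.map n G γ), ?_⟩
      rw [hf, ← tmul_smul]
      congr 1
      rw [← LinearMap.comp_apply, ← exteriorPower.map_comp,
        show orb A (B := B) (e ⊗ₜ[B] e') ∘ₗ G = (a * a') • LinearMap.id from ?_, map_smul_id]
      · rfl
      refine LinearMap.ext fun z => ?_
      induction z with
      | zero => simp
      | tmul z z' =>
        show (g z * g' z') • (e ⊗ₜ[B] e') = (a * a') • (z ⊗ₜ[B] z')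
        rw [← TensorProduct.smul_tmul_smul, hg, hg', TensorProduct.smul_tmul_smul, ← map_mul, algebraMap_smul]
      | add z z' hz hz' => rw [map_add, map_add, hz, hz']

end Algebra

end Groth.Agent.DetNorm16
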