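import Groth.Agent.DetNorm16.Frame
import Mathlib.LinearAlgebra.TensorPower.Basic
import Mathlib.LinearAlgebra.ExteriorAlgebra.Grading
import Mathlib.RingTheory.Norm.Transitivity
import Mathlib.RingTheory.Localization.AtPrime.Basic

/-!
Determinants of the restriction of scalars of a projective module of rank `k`.
-/

set_option autoImplicit false
set_option backward.isDefEq.respectTransparency false
set_option backward.isDefEq.respectTransparency.types false

open TensorProduct

noncomputable section

namespace Groth.Agent.DetNorm16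

/-- Alternating maps on `R^k` are multiples of the determinant. -/
theorem alt_eq_det {R N : Type*} [CommRing R] [AddCommGroup N] [Module R N] {k : ℕ}
    (f : (Fin k → R) [⋀^Fin k]→ₗ[R] N) (c : Fin k → Fin k → R) :
    f c = (Pi.basisFun R (Fin k)).det c • f (fun i => Pi.single i 1) := by
  let b := Pi.basisFun R (Fin k)
  have hb : (fun i => Pi.single i (1 : R)) = ⇑b := funext fun i => (Pi.basisFun_apply R (Fin k) i).symm
  rw [hb]
  suffices hh : f = (LinearMap.toSpanSingleton R _ (f b)).compAlternatingMap b.det from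
    (DFunLike.congr_fun hh c).trans (LinearMap.toSpanSingleton_apply R _ _ _)
  refine b.ext_alternating fun v hv => ?_
  obtain ⟨σ, rfl⟩ : ∃ σ : Equiv.Perm (Fin k), v = σ :=
    ⟨Equiv.ofBijective v (Finite.injective_iff_bijective.1 hv), rfl⟩
  show f (⇑b ∘ ⇑σ) = b.det (⇑b ∘ ⇑σ) • f ⇑b
  rw [AlternatingMap.map_perm, AlternatingMap.map_perm, Module.Basis.det_self, Units.smul_def,
    Units.smul_def, smul_assoc, one_smul]

/-- Elements of a family of exterior powers are divisible by a product of denominators. -/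
theorem wedge_cyclic {A P : Type*} [CommRing A] [AddCommGroup P] [Module A P] {N : ℕ} (v : Fin N → P) (t : A)
    (ht : ∀ y : P, t • y ∈ Submodule.span A (Set.range v)) (γ : ⋀[A]^N P) :
    t ^ N • γ ∈ Submodule.span A {exteriorPower.ιMulti A N v} := by
  have hγ : γ ∈ Submodule.span A (Set.range (exteriorPower.ιMulti A N (M := P))) := by
    rw [exteriorPower.ιMulti_span]; trivial
  induction hγ using Submodule.span_induction with
  | mem γ hγ =>
    obtain ⟨w, rfl⟩ := hγ
    choose c hc using fun i => Submodule.mem_span_range_iff_exists_fun A |>.1 (ht (w i))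
    let f := (exteriorPower.ιMulti A N).compLinearMap (Fintype.linearCombination A v)
    refine Submodule.mem_span_singleton.2 ⟨(Pi.basisFun A (Fin N)).det c, ?_⟩
    have h1 := alt_eq_det f c
    have h2 : f c = exteriorPower.ιMulti A N (fun i => t • w i) :=
      congrArg (exteriorPower.ιMulti A N) (funext fun i => (Fintype.linearCombination_apply A v (c i)).trans (hc i))
    have h3 : f (fun i => Pi.single i 1) = exteriorPower.ιMulti A N v :=
      congrArg (exteriorPower.ιMulti A N) (funext fun i => by simp)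
    rw [← h3, ← h1, h2, AlternatingMap.map_smul_univ, Finset.prod_const, Finset.card_univ, Fintype.card_fin]
  | zero => simp
  | add γ δ _ _ hγ hδ => rw [smul_add]; exact add_mem hγ hδ
  | smul r γ _ hγ => rw [smul_comm]; exact Submodule.smul_mem _ r hγ

variable {A B : Type*} [CommRing A] [CommRing B] [Algebra A B] (n j : ℕ)

variable (A B) in
/-- The determinant of the algebra. -/
abbrev Lam : Type _ := ↥(⋀[A]^n B)

variable (A B) in
/-- The tensor power of the determinant. -/
abbrev XX : Type _ := (⨂[A]^j (Lam A B n)) ⊗[A] Lam A B n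

variable (A B) in
/-- The determinant of the free module. -/
abbrev DD : Type _ := ↥(⋀[A]^((j + 1) * n) (Fin (j + 1) → B))

/-- The inclusion of a factor. -/
abbrev sgl (i : Fin (j + 1)) : B →ₗ[A] (Fin (j + 1) → B) :=
  LinearMap.single A (fun _ => B) i

/-- The wedge of a determinant into the exterior algebra. -/
abbrev slot (i : Fin (j + 1)) : (Lam A B n) →ₗ[A] ExteriorAlgebra A (Fin (j + 1) → B) :=
  (⋀[A]^n (Fin (j + 1) → B)).subtype ∘ₗ exteriorPower.map n (sgl j i)

/-- The product of the first `j` slots. -/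
def multi : (⨂[A]^j (Lam A B n)) →ₗ[A] ExteriorAlgebra A (Fin (j + 1) → B) :=
  PiTensorProduct.lift ((MultilinearMap.mkPiAlgebraFin A j _).compLinearMap fun i => slot n j i.castSucc)

/-- The product of all slots. -/
def prodMap : (XX A B n j) →ₗ[A] ExteriorAlgebra A (Fin (j + 1) → B) :=
  TensorProduct.lift ((LinearMap.mul A (ExteriorAlgebra A (Fin (j + 1) → B))).compl₁₂ (multi n j) (slot n j (Fin.last j)))

theorem prodMap_tprod (β : Fin j → (Lam A B n)) (β' : (Lam A B n)) :
    prodMap n j (PiTensorProduct.tprod A β ⊗ₜ β') =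
      (List.ofFn fun i => slot n j i.castSucc (β i)).prod * slot n j (Fin.last j) β' := by
  simp [prodMap, multi]

theorem prodMap_mem (x : (XX A B n j)) : prodMap n j x ∈ ⋀[A]^((j + 1) * n) (Fin (j + 1) → B) := by
  induction x using TensorProduct.induction_on with
  | zero => rw [map_zero]; exact zero_mem _
  | add x y hx hy => rw [map_add]; exact add_mem hx hy
  | tmul τ β' =>
    induction τ using PiTensorProduct.induction_on with
    | smul_tprod r β =>
      rw [← smul_tmul', map_smul, prodMap_tprod, Nat.succ_mul]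
      refine Submodule.smul_mem _ r (SetLike.mul_mem_graded ?_ (exteriorPower.map n _ β').2)
      have := SetLike.list_prod_ofFn_mem_graded (A := fun i : ℕ => ⋀[A]^i (Fin (j + 1) → B)) (fun _ : Fin j => n)
        (fun i => slot n j i.castSucc (β i)) fun i => (exteriorPower.map n _ (β i)).2
      simpa using this
    | add x y hx hy => rw [add_tmul, map_add]; exact add_mem hx hy

/-- The multiplication map to the determinant of a free module. -/
def W0 : (XX A B n j) →ₗ[A] (DD A B n j) :=
  (prodMap n j).codRestrict _ (prodMap_mem n j)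

/-- A chosen basis of the free module from one of the ring. -/
abbrev blockVec (x : Fin (j + 1) → Fin n → B) : Fin ((j + 1) * n) → (Fin (j + 1) → B) :=
  fun I => Pi.single (finProdFinEquiv.symm I).1 (x (finProdFinEquiv.symm I).1 (finProdFinEquiv.symm I).2)

theorem W0_tprod (x : Fin (j + 1) → Fin n → B) :
    W0 n j (PiTensorProduct.tprod A (fun i : Fin j => exteriorPower.ιMulti A n (x i.castSucc)) ⊗ₜ
      exteriorPower.ιMulti A n (x (Fin.last j))) = exteriorPower.ιMulti A _ (blockVec n j x) := by
  refine Subtype.ext ?_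
  show prodMap n j _ = _
  rw [prodMap_tprod, exteriorPower.ιMulti_apply_coe, ExteriorAlgebra.ιMulti_apply]
  have hs : ∀ i, slot n j i (exteriorPower.ιMulti A n (x i)) =
      (List.ofFn fun l => ExteriorAlgebra.ι A (Pi.single i (x i l))).prod := fun i => by
    simp only [slot, LinearMap.comp_apply, exteriorPower.map_apply_ιMulti, Submodule.subtype_apply,
      exteriorPower.ιMulti_apply_coe, ExteriorAlgebra.ιMulti_apply]
    rfl
  simp only [hs]
  rw [List.ofFn_mul, List.prod_flatten, List.map_ofFn, List.ofFn_succ', List.concat_eq_append, List.prod_append,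
    List.prod_singleton]
  congr 1
  · congr 2
    funext i
    simp only [Function.comp_apply]
    congr 2
    funext l
    rw [show (⟨(i.castSucc : ℕ) * n + l, _⟩ : Fin ((j + 1) * n)) = finProdFinEquiv (i.castSucc, l) from
      Fin.ext (by simp [mul_comm n, add_comm])]
    simp [blockVec]
  · simp only [Function.comp_apply]
    congr 2
    funext l
    rw [show (⟨(Fin.last j : ℕ) * n + l, _⟩ : Fin ((j + 1) * n)) = finProdFinEquiv (Fin.last j, l) from
      Fin.ext (by simp [mul_comm n, add_comm])]
    simp [blockVec]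

/-- Multiplication on the last slot. -/
abbrev mulLast (c : B) : (XX A B n j) →ₗ[A] (XX A B n j) :=
  (exteriorPower.map n (LinearMap.mulLeft A c)).lTensor _

variable (A B) in
/-- Data of a chart of the algebra near a prime. -/
structure Chart (q : PrimeSpectrum A) where
  x : Fin n → B
  φ : Fin n → (B →ₗ[A] A)
  t : A
  t_notMem : t ∉ q.asIdeal
  det_notMem : Matrix.det (Matrix.of fun i l => φ i (x l)) ∉ q.asIdeal
  span : ∀ y : B, t • y ∈ Submodule.span A (Set.range x)

namespace Chart

variable {n} {q : PrimeSpectrum A} (c : Chart A B n q)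

/-- The coordinate matrix of a multiplication. -/
def mat (b : B) : Matrix (Fin n) (Fin n) A :=
  Matrix.of fun i l => c.φ i (b * c.x l)

theorem mat_one : c.mat 1 = Matrix.of fun i l => c.φ i (c.x l) := by
  ext i l; simp [mat]

local notation "Aq" => Localization.AtPrime q.asIdeal

/-- The coordinate matrix over the local ring. -/
abbrev matq (b : B) : Matrix (Fin n) (Fin n) Aq := (c.mat b).map (algebraMap A Aq)

theorem isUnit_det : IsUnit (c.matq 1).det := by
  rw [show c.matq 1 = (algebraMap A Aq).mapMatrix (c.mat 1) from rfl, ← RingHom.map_det, c.mat_one]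
  exact IsLocalization.map_units Aq (⟨_, c.det_notMem⟩ : q.asIdeal.primeCompl)

/-- The representation by matrices over the local ring. -/
def rep : B →+* Matrix (Fin n) (Fin n) Aq where
  toFun b := (c.matq 1)⁻¹ * c.matq b
  map_one' := Matrix.nonsing_inv_mul _ c.isUnit_det
  map_zero' := by
    rw [show c.matq 0 = 0 from Matrix.ext fun i l => by simp [mat], mul_zero]
  map_add' b b' := by
    rw [show c.matq (b + b') = c.matq b + c.matq b' from Matrix.ext fun i l => by simp [mat, add_mul], mul_add]
  map_mul' b b' := by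
    rw [Matrix.mul_assoc]
    congr 1
    choose e he using fun l => Submodule.mem_span_range_iff_exists_fun A |>.1 (c.span (b' * c.x l))
    have ht : IsUnit (algebraMap A Aq c.t) := IsLocalization.map_units Aq (⟨_, c.t_notMem⟩ : q.asIdeal.primeCompl)
    have h : ∀ d : B, c.t • c.mat (d * b') = c.mat d * Matrix.of fun l m => e m l := fun d => by
      ext i l
      simp only [mat, Matrix.smul_apply, Matrix.mul_apply, Matrix.of_apply, smul_eq_mul]
      rw [← smul_eq_mul, ← map_smul, mul_assoc, ← mul_smul_comm, ← he l, Finset.mul_sum, map_sum]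
      simp only [mul_smul_comm, map_smul, smul_eq_mul]
      exact Finset.sum_congr rfl fun m _ => mul_comm _ _
    have h' : ∀ d : B, algebraMap A Aq c.t • c.matq (d * b') = c.matq d * (Matrix.of fun l m => e m l).map (algebraMap A Aq) :=
      fun d => by
        rw [← Matrix.map_mul, ← h d]
        ext i l; simp
    apply ht.smul_left_cancel.1
    rw [h' b, ← Matrix.mul_smul, ← Matrix.mul_smul, show c.matq b' = c.matq (1 * b') by rw [one_mul], h' 1,
      Matrix.nonsing_inv_mul_cancel_left _ _ c.isUnit_det]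

theorem matq_eq (b : B) : c.matq b = c.matq 1 * c.rep b :=
  (Matrix.mul_nonsing_inv_cancel_left _ _ c.isUnit_det).symm

/-- The functional on the determinant of the free module. -/
def Δ : ↥(⋀[A]^((j + 1) * n) (Fin (j + 1) → B)) →ₗ[A] A :=
  exteriorPower.alternatingMapLinearEquiv ((Matrix.detRowAlternating (R := A)).compLinearMap
    (LinearMap.pi fun I : Fin ((j + 1) * n) => c.φ (finProdFinEquiv.symm I).2 ∘ₗ LinearMap.proj (finProdFinEquiv.symm I).1))

theorem Δ_map (C : Matrix (Fin (j + 1)) (Fin (j + 1)) B) :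
    c.Δ j (exteriorPower.map _ ((Matrix.mulVecLin C).restrictScalars A)
      (exteriorPower.ιMulti A _ (blockVec n j fun _ => c.x))) =
      (Matrix.comp (Fin (j + 1)) (Fin (j + 1)) (Fin n) (Fin n) A (C.map c.mat)).det := by
  rw [exteriorPower.map_apply_ιMulti, Δ, exteriorPower.alternatingMapLinearEquiv_apply_ιMulti,
    ← Matrix.det_transpose, ← Matrix.det_reindex_self (finProdFinEquiv (m := j + 1) (n := n))]
  show Matrix.det _ = Matrix.det _
  congr 1
  ext I J
  simp [Matrix.detRowAlternating, mat, blockVec, Matrix.mulVec_single, mul_comm, Matrix.comp, Matrix.transpose]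

theorem Δ_map_eq (C : Matrix (Fin (j + 1)) (Fin (j + 1)) B) :
    algebraMap A Aq (c.Δ j (exteriorPower.map _ ((Matrix.mulVecLin C).restrictScalars A)
      (exteriorPower.ιMulti A _ (blockVec n j fun _ => c.x)))) =
      (c.matq 1).det ^ (j + 1) * (c.rep C.det).det := by
  rw [Δ_map, RingHom.map_det, Matrix.det_det, RingHom.mapMatrix_apply]
  rw [show (c.matq 1).det ^ (j + 1) =
    (Matrix.comp (Fin (j + 1)) (Fin (j + 1)) (Fin n) (Fin n) Aq (Matrix.diagonal fun _ => c.matq 1)).det by
      rw [Matrix.comp_diagonal, Matrix.det_reindex_self, Matrix.det_blockDiagonal, Finset.prod_const,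
        Finset.card_univ, Fintype.card_fin],
    ← Matrix.det_mul]
  congr 1
  refine Eq.trans ?_ (map_mul (Matrix.compRingEquiv (Fin (j + 1)) (Fin n) Aq)
    (Matrix.diagonal fun _ => c.matq 1) (C.map c.rep))
  ext I J
  rw [Matrix.compRingEquiv_apply]
  simp only [Matrix.comp, Equiv.coe_fn_mk, Matrix.map_apply, Matrix.of_apply, Matrix.diagonal_mul, ← matq_eq]

theorem Δ_gen : IsUnit (algebraMap A Aq (c.Δ j (exteriorPower.ιMulti A _ (blockVec n j fun _ => c.x)))) := by
  have h := c.Δ_map_eq j (1 : Matrix (Fin (j + 1)) (Fin (j + 1)) B)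
  rw [Matrix.det_one, map_one, Matrix.det_one, mul_one, exteriorPower.map_apply_ιMulti] at h
  have e : ⇑((Matrix.mulVecLin (1 : Matrix (Fin (j + 1)) (Fin (j + 1)) B)).restrictScalars A) ∘
      blockVec n j (fun _ => c.x) = blockVec n j fun _ => c.x := funext fun I => Matrix.one_mulVec _
  rw [e] at h
  rw [h]
  exact c.isUnit_det.pow _

/-- The generator. -/
abbrev ωX : (⨂[A]^j (↥(⋀[A]^n B))) ⊗[A] ↥(⋀[A]^n B) :=
  PiTensorProduct.tprod A (fun _ : Fin j => exteriorPower.ιMulti A n c.x) ⊗ₜ exteriorPower.ιMulti A n c.x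

theorem cyclic_X (z : (⨂[A]^j (↥(⋀[A]^n B))) ⊗[A] ↥(⋀[A]^n B)) :
    (c.t ^ n) ^ (j + 1) • z ∈ Submodule.span A {c.ωX j} := by
  induction z with
  | zero => simp
  | add x y hx hy => rw [smul_add]; exact add_mem hx hy
  | tmul τ β' =>
    induction τ using PiTensorProduct.induction_on with
    | smul_tprod r β =>
      obtain ⟨d', hd'⟩ := Submodule.mem_span_singleton.1 (wedge_cyclic c.x c.t c.span β')
      choose d hd using fun i => Submodule.mem_span_singleton.1 (wedge_cyclic c.x c.t c.span (β i))
      refine Submodule.mem_span_singleton.2 ⟨r * ((∏ i, d i) * d'), ?_⟩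
      have e2 : (c.t ^ n) ^ j • PiTensorProduct.tprod A β =
          (∏ i, d i) • PiTensorProduct.tprod A (fun _ : Fin j => exteriorPower.ιMulti A n c.x) := by
        rw [show (c.t ^ n) ^ j = ∏ _i : Fin j, c.t ^ n by simp, ← MultilinearMap.map_smul_univ]
        simp only [← hd, MultilinearMap.map_smul_univ]
      rw [pow_succ, ← smul_tmul', smul_comm _ r, mul_smul r]
      congr 1
      rw [← smul_tmul_smul ((c.t ^ n) ^ j) (c.t ^ n), e2, ← hd', smul_tmul_smul]
    | add x y hx hy => rw [add_tmul, smul_add]; exact add_mem hx hy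

theorem blockVec_span (y : Fin (j + 1) → B) :
    c.t • y ∈ Submodule.span A (Set.range (blockVec n j fun _ => c.x)) := by
  rw [show c.t • y = ∑ i, Pi.single i (c.t • y i) by
    conv_lhs => rw [← Finset.univ_sum_single (c.t • y)]
    rfl]
  refine Submodule.sum_mem _ fun i _ => ?_
  obtain ⟨d, hd⟩ := Submodule.mem_span_range_iff_exists_fun A |>.1 (c.span (y i))
  rw [← hd, show (Pi.single i (∑ l, d l • c.x l) : Fin (j + 1) → B) = ∑ l, d l • (Pi.single i (c.x l) : Fin (j + 1) → B) from
    (map_sum (LinearMap.single A (fun _ => B) i) _ _).trans (Finset.sum_congr rfl fun l _ => map_smul _ _ _)]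
  exact Submodule.sum_mem _ fun l _ => Submodule.smul_mem _ _ (Submodule.subset_span ⟨finProdFinEquiv (i, l), by simp [blockVec]⟩)

end Chart

/-- Endomorphisms of a free module act on its determinant through their determinants. -/
theorem map_W0 (hc : ∀ q : PrimeSpectrum A, Nonempty (Chart A B n q)) (C : Matrix (Fin (j + 1)) (Fin (j + 1)) B) :
    exteriorPower.map _ ((Matrix.mulVecLin C).restrictScalars A) ∘ₗ W0 n j = W0 n j ∘ₗ mulLast n j C.det := by
  refine LinearMap.ext fun z => eq_of_local (A := A) fun q => ?_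
  obtain ⟨c⟩ := hc q
  obtain ⟨r, hr⟩ := Submodule.mem_span_singleton.1 (c.cyclic_X j z)
  let C' : Matrix (Fin (j + 1)) (Fin (j + 1)) B := Matrix.diagonal (Function.update (1 : Fin (j + 1) → B) (Fin.last j) C.det)
  let ω0 := exteriorPower.ιMulti A ((j + 1) * n) (blockVec n j fun _ => c.x)
  have hW : W0 n j (c.ωX j) = ω0 := W0_tprod n j fun _ => c.x
  have hC' : exteriorPower.map _ ((Matrix.mulVecLin C').restrictScalars A) ω0 = W0 n j (mulLast n j C.det (c.ωX j)) := by
    let x' : Fin (j + 1) → Fin n → B := Function.update (fun _ => c.x) (Fin.last j) fun l => C.det * c.x l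
    rw [exteriorPower.map_apply_ιMulti, LinearMap.lTensor_tmul, exteriorPower.map_apply_ιMulti]
    have e := W0_tprod (A := A) n j x'
    simp only [x', Function.update_self, ne_eq, Fin.castSucc_ne_last, not_false_eq_true, Function.update_of_ne] at e
    refine Eq.trans ?_ e.symm
    congr 1
    funext I
    obtain ⟨⟨i, l⟩, rfl⟩ := finProdFinEquiv.surjective I
    funext a
    simp only [C', blockVec, Function.comp_apply, LinearMap.restrictScalars_apply, Matrix.mulVecLin_apply,
      Matrix.mulVec_diagonal, Equiv.symm_apply_apply]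
    rcases eq_or_ne a i with rfl | ha
    · rcases eq_or_ne a (Fin.last j) with rfl | hl
      · simp
      · simp [hl]
    · simp [ha]
  have hdet : C'.det = C.det := by
    simp [C', Finset.prod_update_of_mem]
  let δ := exteriorPower.map _ ((Matrix.mulVecLin C).restrictScalars A) ω0 - W0 n j (mulLast n j C.det (c.ωX j))
  have hδ : algebraMap A (Localization.AtPrime q.asIdeal) (c.Δ j δ) = 0 := by
    rw [map_sub, map_sub, ← hC', c.Δ_map_eq, c.Δ_map_eq, hdet, sub_self]
  obtain ⟨s, hs⟩ := Submodule.mem_span_singleton.1 (wedge_cyclic _ c.t (c.blockVec_span j) δ)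
  have hs0 : algebraMap A (Localization.AtPrime q.asIdeal) s = 0 := by
    have := congrArg (fun w => algebraMap A (Localization.AtPrime q.asIdeal) (c.Δ j w)) hs
    simp only [map_smul, smul_eq_mul, map_mul, hδ, mul_zero] at this
    exact (c.Δ_gen j).mul_left_eq_zero.1 this
  obtain ⟨⟨u, hu⟩, hu0⟩ := (IsLocalization.map_eq_zero_iff q.asIdeal.primeCompl (Localization.AtPrime q.asIdeal) s).1 hs0
  have hkill : (u * c.t ^ ((j + 1) * n)) • δ = 0 := by
    rw [mul_smul, ← hs, smul_smul, hu0, zero_smul]
  simp only [δ, smul_sub, sub_eq_zero] at hkill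
  refine ⟨u * c.t ^ ((j + 1) * n) * (c.t ^ n) ^ (j + 1), Ideal.IsPrime.mul_notMem q.isPrime
    (Ideal.IsPrime.mul_notMem q.isPrime hu fun h => c.t_notMem (q.isPrime.mem_of_pow_mem _ h))
    fun h => c.t_notMem (q.isPrime.mem_of_pow_mem _ (q.isPrime.mem_of_pow_mem _ h)), ?_⟩
  rw [mul_smul (u * c.t ^ ((j + 1) * n)) ((c.t ^ n) ^ (j + 1)), mul_smul (u * c.t ^ ((j + 1) * n)) ((c.t ^ n) ^ (j + 1)),
    ← map_smul _ ((c.t ^ n) ^ (j + 1)) z, ← map_smul _ ((c.t ^ n) ^ (j + 1)) z, ← hr, map_smul, map_smul,
    smul_comm _ r, smul_comm _ r, LinearMap.comp_apply, hW, LinearMap.comp_apply, hkill]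

theorem exists_det_power_iso [Module.Finite A B] {M : Type*} [AddCommGroup M] [Module B M] [Module A M]
    [IsScalarTower A B M] {N : ℕ} (hN : N = (j + 1) * n)
    (hc : ∀ q : PrimeSpectrum A, Nonempty (Chart A B n q))
    (h : ∀ q : PrimeSpectrum A, ∃ (e : Fin (j + 1) → M) (a : A) (g : M →ₗ[B] (Fin (j + 1) → B)), a ∉ q.asIdeal ∧
      ∀ z : M, Fintype.linearCombination B e (g z) = algebraMap A B a • z) :
    Nonempty ((⋀[A]^N M) ≃ₗ[A] (⨂[A]^j (Lam A B n)) ⊗[A] (⋀[A]^n (⋀[B]^(j + 1) M))) := by
  subst hN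
  let L : (Fin (j + 1) → M) → ((Fin (j + 1) → B) →ₗ[A] M) := fun v => (Fintype.linearCombination B v).restrictScalars A
  let w : (Fin (j + 1) → M) → ↥(⋀[B]^(j + 1) M) := fun v => exteriorPower.ιMulti B (j + 1) v
  let Φ : (Fin (j + 1) → M) → ((XX A B n j) →ₗ[A] (⨂[A]^j (Lam A B n)) ⊗[A] (⋀[A]^n (⋀[B]^(j + 1) M))) := fun v =>
    (exteriorPower.map n (orb A (B := B) (w v))).lTensor _
  have hpow : ∀ (v : Fin (j + 1) → M) (b : B), Φ v ∘ₗ mulLast n j b = (exteriorPower.map n (orb A (B := B) (b • w v))).lTensor _ := by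
    intro v b
    simp only [Φ, mulLast]
    rw [← LinearMap.lTensor_comp, ← exteriorPower.map_comp]
    congr 2
    exact LinearMap.ext fun y => by simp [mul_smul, smul_comm y b]
  have hwedge : ∀ (e : Fin (j + 1) → M) (u : Fin (j + 1) → (Fin (j + 1) → B)),
      (Pi.basisFun B (Fin (j + 1))).det u • w e = w fun i => Fintype.linearCombination B e (u i) := fun e u => by
    refine Eq.trans ?_ (alt_eq_det ((exteriorPower.ιMulti B (j + 1)).compLinearMap (Fintype.linearCombination B e)) u).symm
    congr 1
    exact congrArg (exteriorPower.ιMulti B (j + 1)) (funext fun i => by simp)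
  let S : Ideal A :=
    { carrier := {a | ∃ f : ↥(⋀[A]^((j + 1) * n) M) →ₗ[A] (⨂[A]^j (Lam A B n)) ⊗[A] (⋀[A]^n (⋀[B]^(j + 1) M)),
        ∀ v z, f (exteriorPower.map _ (L v) (W0 n j z)) = a • Φ v z}
      zero_mem' := ⟨0, fun v z => by rw [zero_smul, LinearMap.zero_apply]⟩
      add_mem' := fun {a b} ⟨f, hf⟩ ⟨g, hg⟩ => ⟨f + g, fun v z => by
        rw [LinearMap.add_apply, hf, hg, add_smul]⟩
      smul_mem' := fun c a ⟨f, hf⟩ => ⟨c • f, fun v z => by
        rw [LinearMap.smul_apply, hf, smul_eq_mul, mul_smul]⟩ }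
  have hS : S = ⊤ := by
    by_contra hne
    obtain ⟨q, hq, hle⟩ := Ideal.exists_le_maximal S hne
    obtain ⟨c⟩ := hc ⟨q, hq.isPrime⟩
    obtain ⟨e, a, g, ha, hg⟩ := h ⟨q, hq.isPrime⟩
    let T := (c.t ^ n) ^ (j + 1)
    let d := c.Δ j (exteriorPower.ιMulti A _ (blockVec n j fun _ => c.x))
    have hd : d ∉ q := fun hd => by
      have h0 := c.Δ_gen j
      exact (IsLocalization.AtPrime.isUnit_to_map_iff (Localization.AtPrime q) q d).1 h0 hd
    let R0 : (DD A B n j) →ₗ[A] (XX A B n j) := LinearMap.toSpanSingleton A _ (c.ωX j) ∘ₗ c.Δ j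
    have hR0 : ∀ z, T • R0 (W0 n j z) = (T * d) • z := fun z => by
      obtain ⟨r, hr⟩ := Submodule.mem_span_singleton.1 (c.cyclic_X j z)
      rw [mul_comm T d, mul_smul d T, ← map_smul R0, ← map_smul, ← hr, map_smul, map_smul, smul_comm d r,
        W0_tprod n j fun _ => c.x]
      rfl
    refine Ideal.IsPrime.mul_notMem hq.isPrime (x := T * d) (y := (a ^ (j + 1)) ^ n) ?_
      (fun hh => ha (hq.isPrime.mem_of_pow_mem _ (hq.isPrime.mem_of_pow_mem _ hh))) (hle ?_)
    · exact Ideal.IsPrime.mul_notMem hq.isPrime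
        (fun hh => c.t_notMem (hq.isPrime.mem_of_pow_mem _ (hq.isPrime.mem_of_pow_mem _ hh))) hd
    refine ⟨T • (Φ e ∘ₗ R0 ∘ₗ exteriorPower.map _ (g.restrictScalars A)), fun v z => ?_⟩
    let C : Matrix (Fin (j + 1)) (Fin (j + 1)) B := LinearMap.toMatrix' (g ∘ₗ Fintype.linearCombination B v)
    have hgv : exteriorPower.map _ (g.restrictScalars A) ∘ₗ exteriorPower.map ((j + 1) * n) (L v) =
        exteriorPower.map _ ((Matrix.mulVecLin C).restrictScalars A) := by
      rw [← exteriorPower.map_comp]
      congr 1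
      refine LinearMap.ext fun y => ?_
      show g (Fintype.linearCombination B v y) = C.mulVec y
      exact (LinearMap.toMatrix'_mulVec (g ∘ₗ Fintype.linearCombination B v) y).symm
    have hce : C.det • w e = algebraMap A B (a ^ (j + 1)) • w v := by
      have hdetC : C.det = (Pi.basisFun B (Fin (j + 1))).det fun i => g (v i) := by
        rw [Module.Basis.det_apply]
        congr 1
        ext r i
        simp [C, Module.Basis.toMatrix_apply, LinearMap.toMatrix'_apply]
      rw [hdetC, hwedge]
      show exteriorPower.ιMulti B (j + 1) _ = _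
      simp only [hg, AlternatingMap.map_smul_univ, Finset.prod_const, Finset.card_univ, Fintype.card_fin, map_pow]
      rfl
    rw [LinearMap.smul_apply, LinearMap.comp_apply, LinearMap.comp_apply, ← map_smul (Φ e),
      ← LinearMap.comp_apply (exteriorPower.map _ (g.restrictScalars A)), hgv, ← LinearMap.comp_apply (g := W0 n j),
      map_W0 n j hc]
    show Φ e (T • R0 (W0 n j (mulLast n j C.det z))) = _
    rw [hR0, map_smul, ← LinearMap.comp_apply, hpow, hce, mul_smul (T * d)]
    congr 1
    rw [← LinearMap.smul_apply]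
    congr 1
    rw [show orb A (B := B) (algebraMap A B (a ^ (j + 1)) • w v) = orb A (B := B) (w v) ∘ₗ (a ^ (j + 1) • LinearMap.id) from
      LinearMap.ext fun y => by
        show y • (algebraMap A B (a ^ (j + 1)) • w v) = (a ^ (j + 1) • y) • w v
        rw [algebraMap_smul, smul_comm, smul_assoc],
      exteriorPower.map_comp, map_smul_id, LinearMap.comp_smul, LinearMap.comp_id, LinearMap.lTensor_smul]
  obtain ⟨f, hf⟩ : (1 : A) ∈ S := hS ▸ Submodule.mem_top
  simp only [one_smul] at hf
  letI : AddCommGroup ((⨂[A]^j (Lam A B n)) ⊗[A] (⋀[A]^n (⋀[B]^(j + 1) M))) := Module.addCommMonoidToAddCommGroup A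
  refine ⟨LinearEquiv.ofBijective f (bijective_of_local (P := ↥(⋀[A]^((j + 1) * n) M))
    (Q := (⨂[A]^j (Lam A B n)) ⊗[A] (⋀[A]^n (⋀[B]^(j + 1) M))) f ?_ ?_)⟩
  · intro y hy q
    obtain ⟨c⟩ := hc q
    obtain ⟨e, a, g, ha, hg⟩ := h q
    let ω0 := exteriorPower.ιMulti A ((j + 1) * n) (blockVec n j fun _ => c.x)
    let T' := c.t ^ ((j + 1) * n)
    let N' := a ^ ((j + 1) * n)
    obtain ⟨r, hr⟩ := Submodule.mem_span_singleton.1
      (wedge_cyclic _ c.t (c.blockVec_span j) (exteriorPower.map _ (g.restrictScalars A) y))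
    have hEg : exteriorPower.map ((j + 1) * n) (L e) ∘ₗ exteriorPower.map _ (g.restrictScalars A) = N' • LinearMap.id := by
      rw [← exteriorPower.map_comp, show L e ∘ₗ g.restrictScalars A = a • LinearMap.id from
        LinearMap.ext fun z => (hg z).trans (algebraMap_smul B a z), map_smul_id]
    have h1 : (T' * N') • y = r • exteriorPower.map _ (L e) (W0 n j (c.ωX j)) := by
      rw [W0_tprod n j fun _ => c.x, ← map_smul, hr, map_smul, mul_smul,
        ← LinearMap.comp_apply, hEg]
      rfl
    have h2 : r • Φ e (c.ωX j) = 0 := by rw [← hf, ← map_smul, ← h1, map_smul, hy, smul_zero]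
    let C : Matrix (Fin (j + 1)) (Fin (j + 1)) B := LinearMap.toMatrix' (g ∘ₗ Fintype.linearCombination B e)
    let G : ↥(⋀[B]^(j + 1) M) →ₗ[B] B :=
      exteriorPower.alternatingMapLinearEquiv ((Pi.basisFun B (Fin (j + 1))).det.compLinearMap g)
    have hG : G (w e) = C.det := by
      rw [exteriorPower.alternatingMapLinearEquiv_apply_ιMulti, AlternatingMap.compLinearMap_apply, Module.Basis.det_apply]
      congr 1
      ext r i
      simp [C, Module.Basis.toMatrix_apply, LinearMap.toMatrix'_apply]
    have h3 : r • W0 n j (mulLast n j C.det (c.ωX j)) = 0 := by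
      rw [← map_smul, ← map_smul, show mulLast n j C.det = (exteriorPower.map n (G.restrictScalars A)).lTensor _ ∘ₗ Φ e from ?_,
        LinearMap.comp_apply, map_smul, h2, map_zero, map_zero]
      simp only [mulLast, Φ]
      rw [← LinearMap.lTensor_comp, ← exteriorPower.map_comp]
      congr 2
      exact LinearMap.ext fun b => by simp [hG, mul_comm]
    rw [← LinearMap.comp_apply, ← map_W0 n j hc, LinearMap.comp_apply] at h3
    refine ⟨N' * (T' * N'), ?_, ?_⟩
    · exact Ideal.IsPrime.mul_notMem q.isPrime (fun hh => ha (q.isPrime.mem_of_pow_mem _ hh))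
        (Ideal.IsPrime.mul_notMem q.isPrime (fun hh => c.t_notMem (q.isPrime.mem_of_pow_mem _ hh))
          fun hh => ha (q.isPrime.mem_of_pow_mem _ hh))
    · have h4 := congrArg (exteriorPower.map ((j + 1) * n) (L e)) h3
      rw [map_zero, map_smul, ← LinearMap.comp_apply, ← exteriorPower.map_comp] at h4
      have h5 : L e ∘ₗ (Matrix.mulVecLin C).restrictScalars A = (a • LinearMap.id) ∘ₗ L e := LinearMap.ext fun z => by
        show Fintype.linearCombination B e (C.mulVec z) = a • Fintype.linearCombination B e z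
        rw [LinearMap.toMatrix'_mulVec, LinearMap.comp_apply, hg, algebraMap_smul]
      rw [h5, exteriorPower.map_comp, LinearMap.comp_apply, map_smul_id, LinearMap.smul_apply, LinearMap.id_apply,
        smul_comm r] at h4
      rw [mul_smul, h1]
      exact h4
  · intro y q
    obtain ⟨e, a, g, ha, hg⟩ := h q
    let G : ↥(⋀[B]^(j + 1) M) →ₗ[B] B :=
      exteriorPower.alternatingMapLinearEquiv ((Pi.basisFun B (Fin (j + 1))).det.compLinearMap g)
    refine ⟨(a ^ (j + 1)) ^ n, fun hh => ha (q.isPrime.mem_of_pow_mem _ (q.isPrime.mem_of_pow_mem _ hh)),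
      exteriorPower.map _ (L e) (W0 n j ((exteriorPower.map n (G.restrictScalars A)).lTensor _ y)), ?_⟩
    rw [hf, ← LinearMap.comp_apply]
    simp only [Φ]
    rw [← LinearMap.lTensor_comp, ← exteriorPower.map_comp,
      show orb A (B := B) (w e) ∘ₗ G.restrictScalars A = a ^ (j + 1) • LinearMap.id from ?_, map_smul_id,
      LinearMap.lTensor_smul, LinearMap.lTensor_id]
    · rfl
    refine LinearMap.ext fun u => ?_
    show G u • w e = a ^ (j + 1) • u
    rw [← algebraMap_smul B (a ^ (j + 1)) u]
    refine LinearMap.congr_fun (f := (LinearMap.toSpanSingleton B _ (w e)) ∘ₗ G)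
      (g := algebraMap A B (a ^ (j + 1)) • LinearMap.id) ?_ u
    refine Submodule.linearMap_eq_iff_of_span_eq_top _ _ (exteriorPower.ιMulti_span B (j + 1) M) |>.2 ?_
    rintro ⟨_, v, rfl⟩
    show G (exteriorPower.ιMulti B (j + 1) v) • w e = _
    rw [exteriorPower.alternatingMapLinearEquiv_apply_ιMulti, AlternatingMap.compLinearMap_apply, hwedge]
    show exteriorPower.ιMulti B (j + 1) _ = _
    simp only [hg, AlternatingMap.map_smul_univ, Finset.prod_const, Finset.card_univ, Fintype.card_fin, map_pow]
    rfl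

end Groth.Agent.DetNorm16
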